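import Groth.Agent.L16.PushCompare
import Groth.Agent.L10.TopCoh

/-!
# The first cohomology of a direct image injects into the first cohomology
-/

set_option autoImplicit false
set_option backward.defeqAttrib.useBackward true
set_option linter.style.haveILetI false
set_option backward.isDefEq.respectTransparency false

universe u

open CategoryTheory CategoryTheory.Limits CategoryTheory.Abelian Opposite TopologicalSpace AlgebraicGeometry

noncomputable section

namespace Groth.L13.RatSing

open Groth.L10 Groth.L10.SiteCoh

section Top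

variable {X Y : TopCat.{u}} (f : X ⟶ Y)

/-- If the first cohomology of a sheaf vanishes, so does that of its direct image. -/
theorem subsingleton_ext_push (F : CohTop.Ab X)
    (h : Subsingleton (Ext (fs (Opens.grothendieckTopology X) (⊤ : Opens X)) F 1)) :
    Subsingleton (Ext (fs (Opens.grothendieckTopology Y) (⊤ : Opens Y)) ((CohTop.push f).obj F) 1) := by
  let P := CohTop.push f
  haveI := TopCoh.pull_preservesFiniteLimits f
  haveI : PreservesLimitsOfSize.{0, 0} P :=
    (TopCat.Sheaf.pullbackPushforwardAdjunction AddCommGrpCat.{u} f).rightAdjoint_preservesLimits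
  haveI : PreservesFiniteLimits P := PreservesLimitsOfSize.preservesFiniteLimits P
  haveI hI : Injective (P.obj (hull F).X₂) :=
    @TopCoh.push_injective _ _ f (hull F).X₂ (inferInstanceAs (Injective (Injective.under F)))
  haveI : Mono (P.map (hull F).f) := inferInstanceAs (Mono (P.map (Injective.ι F)))
  let S : ShortComplex (CohTop.Ab Y) :=
    ShortComplex.mk (P.map (hull F).f) (cokernel.π (P.map (hull F).f)) (cokernel.condition _)
  have hS : S.ShortExact := { exact := ShortComplex.exact_cokernel _ }
  let κ : S.X₃ ⟶ P.obj (hull F).X₃ :=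
    cokernel.desc _ (P.map (hull F).g) (by rw [← P.map_comp, (hull F).zero, P.map_zero])
  have hex : ((hull F).map P).Exact := by
    haveI : Mono ((hull F).map P).f := inferInstanceAs (Mono (P.map (Injective.ι F)))
    exact ShortComplex.exact_of_f_is_kernel _ (isLimitForkMapOfIsLimit' P _ (hull_shortExact F).fIsKernel)
  haveI : Mono κ := hex.mono_cokernelDesc
  have hπκ : cokernel.π (P.map (hull F).f) ≫ κ = P.map (hull F).g := cokernel.π_desc _ _ _
  refine subsingleton_of_forall_eq 0 fun x => eq_zero_of_surjective_sections hS _ (fun s => ?_) x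
    (Ext.eq_zero_of_injective _)
  let q : (hull F).X₃.obj.obj (op (⊤ : Opens X)) := κ.hom.app (op ⊤) s
  let y := (hu0 (J := Opens.grothendieckTopology X) (hull F).X₃ (⊤ : Opens X)).symm q
  obtain ⟨t, ht⟩ := Ext.covariant_sequence_exact₃ _ (hull_shortExact F) y (zero_add 1) (h.elim _ _)
  refine ⟨hu0 (J := Opens.grothendieckTopology X) (hull F).X₂ (⊤ : Opens X) t, ?_⟩
  have hinj : Function.Injective (κ.hom.app (op (⊤ : Opens Y))) := by
    haveI : Mono κ.hom := inferInstanceAs (Mono ((sheafToPresheaf _ _).map κ))
    exact (AddCommGrpCat.mono_iff_injective _).1 inferInstance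
  refine hinj (Eq.trans (congr($(congrArg (fun φ : P.obj (hull F).X₂ ⟶ P.obj (hull F).X₃ => φ.hom.app (op (⊤ : Opens Y))) hπκ)
    (hu0 (J := Opens.grothendieckTopology X) (hull F).X₂ (⊤ : Opens X) t))) ?_)
  show (hull F).g.hom.app (op (⊤ : Opens X)) _ = q
  rw [← hu0_comp, ht]
  exact AddEquiv.apply_symm_apply _ _

/-- If the first cohomology of a sheaf vanishes, so does that of its direct image. -/
theorem subsingleton_H_push (F : CohTop.Ab X) (h : Subsingleton (CohTop.H F 1)) :
    Subsingleton (CohTop.H ((CohTop.push f).obj F) 1) := by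
  have := subsingleton_ext_push f F (@Equiv.subsingleton _ _ (Groth.L17.hTopEquiv (X := X) F 1).symm.toEquiv h)
  exact @Equiv.subsingleton _ _ (Groth.L17.hTopEquiv (X := Y) ((CohTop.push f).obj F) 1).toEquiv this

end Top

/-- If the first cohomology of a module vanishes, so does that of its direct image. -/
theorem subsingleton_HH_push_one {X Y : Scheme.{u}} (f : X ⟶ Y) (M : X.Modules) (h : Subsingleton (Coh.HH X M 1)) :
    Subsingleton (Coh.HH Y ((Coh.push f).obj M) 1) :=
  subsingleton_H_push (X := X.toTopCat) (Y := Y.toTopCat) f.base (Coh.toAb M) h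

end Groth.L13.RatSing
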