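import Groth.Prelude.Def_ModelsG
import Groth.Agent.L16.Connected.AppIso
import Groth.Agent.L03.BlowPt.Factor
import Groth.Agent.L05.NeronFinite.Dedekind
import Groth.Agent.S11555
import Groth.Agent.L03.RegularNormal
import Groth.Agent.L16.Blow.Integral

/-!
# Birational morphisms to the spectrum of a two-dimensional regular local ring
-/

set_option autoImplicit false
set_option linter.style.haveILetI false
set_option backward.isDefEq.respectTransparency false

universe u

open CategoryTheory CategoryTheory.Limits AlgebraicGeometry TopologicalSpace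

noncomputable section

namespace Groth.L13.RatSing

variable {X Y : Scheme.{u}}

theorem isIso_restrict_le (f : X ⟶ Y) {U V : Y.Opens} (h : U ≤ V) [IsIso (f ∣_ V)] : IsIso (f ∣_ U) := by
  haveI : IsIso ((f ∣_ V) ∣_ (V.ι ⁻¹ᵁ U)) := inferInstance
  have h1 : IsIso (f ∣_ (V.ι ''ᵁ (V.ι ⁻¹ᵁ U))) :=
    ((MorphismProperty.isomorphisms Scheme.{u}).arrow_mk_iso_iff (morphismRestrictRestrict f V (V.ι ⁻¹ᵁ U))).mp this
  rwa [show V.ι ''ᵁ (V.ι ⁻¹ᵁ U) = U by
    rw [Scheme.Hom.image_preimage_eq_opensRange_inf, Scheme.Opens.opensRange_ι, inf_eq_right.mpr h]] at h1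

/-- A morphism of integral schemes which is an isomorphism over a nonempty open is birational. -/
theorem birational_of_isIso_restrict [IsIntegral X] [IsIntegral Y] (f : X ⟶ Y) (V : Y.Opens)
    (hV : (V : Set Y).Nonempty) [IsIso (f ∣_ V)] :
    ∃ e : f (genericPoint X) = genericPoint Y, Function.Bijective (f.stalkMap (genericPoint X)) := by
  have hη : genericPoint Y ∈ V := (genericPoint_spec Y).mem_open_set_iff V.2 |>.2 (by simpa using hV)
  obtain ⟨x₀, hx₀⟩ := (f ∣_ V).surjective ⟨genericPoint Y, hη⟩
  have hfx : f x₀.1 = genericPoint Y := by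
    rw [← morphismRestrict_base_coe, hx₀]
  have hξ : f (genericPoint X) = genericPoint Y :=
    (Specializes.antisymm (hfx ▸ (genericPoint_specializes x₀.1).map f.continuous) (genericPoint_specializes _)).eq
  refine ⟨hξ, ?_⟩
  have hmem : genericPoint X ∈ f ⁻¹ᵁ V := by show f (genericPoint X) ∈ V; rw [hξ]; exact hη
  rw [← ConcreteCategory.isIso_iff_bijective]
  exact ((MorphismProperty.isomorphisms CommRingCat).arrow_mk_iso_iff (morphismRestrictStalkMap f V ⟨_, hmem⟩)).1
    (inferInstance : IsIso ((f ∣_ V).stalkMap ⟨_, hmem⟩))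

/-- A proper birational morphism to a normal scheme has trivial direct image. -/
theorem isIso_app_of_isIso_restrict [IsIntegral X] [IsIntegral Y] (f : X ⟶ Y) [IsProper f]
    (hY : Pi1.IsNormalScheme Y) (V : Y.Opens) (hV : (V : Set Y).Nonempty) [IsIso (f ∣_ V)] (U : Y.Opens) :
    IsIso (f.app U) := by
  obtain ⟨e, h⟩ := birational_of_isIso_restrict f V hV
  have hbij : Function.Bijective (Groth.L21.Curve.ffMap f e) :=
    h.comp (ConcreteCategory.bijective_of_isIso (Y.presheaf.stalkCongr (.of_eq e)).inv)
  exact Groth.L16.Connected.isIso_app_of_birational f e (fun y => (hY y).2) hbij U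

/-- A source of an iterated point contraction of an integral scheme is integral. -/
theorem isIntegral_of_seq {g : X ⟶ Y} (hg : Models.IsContractionSeq g) : IsIntegral Y → IsIntegral X := by
  induction hg with
  | @iso A B e =>
    intro hB
    haveI : Nonempty A := ⟨e.inv (genericPoint B)⟩
    exact isIntegral_of_isOpenImmersion e.hom
  | @step A B C E ι b r hι hE hb hr ih =>
    intro hC
    haveI := ih hC
    obtain ⟨hB, -, y, hy, -, hreg, hdim, hbl⟩ := hb
    refine (Groth.L16.Blow.isIntegral_and_birational hbl fun h0 => ?_).1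
    have hgen : genericPoint B = y := by
      have hm : genericPoint B ∈ ((Scheme.IdealSheafData.vanishingIdeal (⟨{y}, hy⟩ : Closeds B)).support : Set B) := by
        rw [h0, Scheme.IdealSheafData.support_bot]; trivial
      simpa using hm
    rw [← hgen, ringKrullDim_eq_zero_of_isField (Field.toIsField B.functionField)] at hdim
    exact absurd hdim (by norm_num)

variable {A : Type u} [CommRing A] [IsRegularLocalRing A]

theorem isNormalScheme_Spec : Pi1.IsNormalScheme (Spec (CommRingCat.of A)) :=
  Groth.L05.NeronFinite.isNormalScheme_spec fun p _ => by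
    haveI : IsDomain A := Groth.L01.isDomain_of_regular A
    haveI := Groth.L03.RegularNormal.isIntegrallyClosed A
    exact ⟨inferInstance, isIntegrallyClosed_of_isLocalization _ p.primeCompl p.primeCompl_le_nonZeroDivisors⟩

theorem eq_closedPoint (hdim : ringKrullDim A = 2) (p : Spec (CommRingCat.of A))
    (hp : 2 ≤ ringKrullDim ((Spec (CommRingCat.of A)).presheaf.stalk p)) : p = IsLocalRing.closedPoint A := by
  by_contra hne
  have h1 := Groth.L03.BlowPt.Factor.dim_add_one_le (IsLocalRing.specializes_closedPoint p) hne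
  have h2 : ringKrullDim ((Spec (CommRingCat.of A)).presheaf.stalk (IsLocalRing.closedPoint A)) ≤ 2 := by
    refine (Groth.L15.CohFlat.ringKrullDim_stalk_le (X := Spec (CommRingCat.of A)) (IsLocalRing.closedPoint A)).trans ?_
    rw [← hdim]
    exact le_of_eq (PrimeSpectrum.topologicalKrullDim_eq_ringKrullDim A)
  exact absurd (((add_le_add hp le_rfl).trans h1).trans h2) (by decide)

theorem stalk_closedPoint (hdim : ringKrullDim A = 2) :
    IsRegularLocalRing ((Spec (CommRingCat.of A)).presheaf.stalk (IsLocalRing.closedPoint A)) ∧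
      ringKrullDim ((Spec (CommRingCat.of A)).presheaf.stalk (IsLocalRing.closedPoint A)) = 2 := by
  let e : A ≃+* (Spec (CommRingCat.of A)).presheaf.stalk (IsLocalRing.closedPoint A) :=
    (stalkClosedPointIso (CommRingCat.of A)).symm.commRingCatIsoToRingEquiv
  exact ⟨IsRegularLocalRing.of_ringEquiv e, (ringKrullDim_eq_of_ringEquiv e).symm.trans hdim⟩

end Groth.L13.RatSing
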