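import Groth.Prelude.Def_ModelsG
import Groth.Agent.L13.RatSing.PushInj
import Groth.Agent.L13.PairBlow.EndSheaf
import Groth.Agent.L13.Contraction.Basic
import Groth.Agent.L17.AffineVanishing
import Groth.Agent.L03.RegularNormal
import Groth.Agent.L16.Blow.Integral

/-!
# Point blow-ups of regular surfaces do not change the first cohomology of the structure sheaf
-/

set_option autoImplicit false
set_option linter.style.haveILetI false
set_option backward.isDefEq.respectTransparency false
set_option backward.isDefEq.respectTransparency.types false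

universe u

open CategoryTheory CategoryTheory.Limits AlgebraicGeometry TopologicalSpace Opposite

noncomputable section

namespace Groth.L13.RatSing

open Groth.L13.PairBlow

/-- A morphism with `f_* O = O`: the direct image of the structure sheaf is the structure sheaf. -/
theorem nonempty_push_structure {X Y : Scheme.{u}} (f : X ⟶ Y) (happ : ∀ U : Y.Opens, IsIso (f.app U)) :
    Nonempty ((Coh.push f).obj (Coh.structureModule X) ≅ Coh.structureModule Y) := by
  haveI := Groth.L20.DescLocus.isIso_unit_of_isFinLocFree f happ (Groth.L16.HomSh.isFinLocFree_unit Y)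
  exact ⟨(Scheme.Modules.pushforward f).mapIso (Groth.L29.LocFree.pullbackUnitIso f).symm ≪≫
    (asIso ((Scheme.Modules.pullbackPushforwardAdjunction f).unit.app (Coh.structureModule Y))).symm⟩

/-- A composite of point contractions over an affine scheme is proper and has no first cohomology. -/
theorem isProper_and_subsingleton_H1 {Y X : Scheme.{u}} {g : Y ⟶ X} (hg : Models.IsContractionSeq g) :
    IsProper g ∧ (IsAffine X → Subsingleton (Coh.HH Y (Coh.structureModule Y) 1)) := by
  induction hg with
  | @iso Y X e =>
    refine ⟨inferInstance, fun hX => ?_⟩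
    haveI := hX
    haveI := IsAffine.of_isIso e.hom
    haveI : Coh.IsQCoh (Coh.structureModule Y) :=
      Groth.L29.DC.PCQCoh.isQCoh_of_isFinLocFree (Groth.L16.HomSh.isFinLocFree_unit _)
    exact Groth.L17.subsingleton_HH_of_isAffine Y _ 0
  | @step Y Z X E ι b r hι hE hb hr ih =>
    obtain ⟨hrp, ih⟩ := ih
    obtain ⟨hZ, hbp, y, hy, -, hreg, hdim, hbl⟩ := hb
    haveI := hrp; haveI := hbp; haveI := hZ
    refine ⟨inferInstance, fun hX => ?_⟩
    haveI := hX
    haveI := hreg
    haveI : IsDomain (Z.presheaf.stalk y) := Groth.L01.isDomain_of_regular _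
    have hpos : ¬ IsField (Z.presheaf.stalk y) := fun h => by
      rw [ringKrullDim_eq_zero_of_isField h] at hdim
      exact absurd hdim (by norm_num)
    have hbij := Groth.L13.Contraction.bijective_app hy b (Groth.L03.RegularNormal.isIntegrallyClosed _) hpos hbl
    obtain ⟨p⟩ := nonempty_push_structure b fun U => (ConcreteCategory.isIso_iff_bijective _).2 (hbij U)
    have hdim' : ringKrullDim (Z.presheaf.stalk y) = (2 : ℕ) := by rw [hdim]; rfl
    have hc := goodCentre_vanishingIdeal hy (Set.finite_singleton y)
      (fun x hx => (Set.mem_singleton_iff.1 hx) ▸ hy) (fun x hx => (Set.mem_singleton_iff.1 hx) ▸ hreg)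
      (fun x hx => (Set.mem_singleton_iff.1 hx) ▸ hdim')
    haveI : Z.IsSeparated := ⟨by
      haveI : IsSeparated (r ≫ terminal.from X) := inferInstance
      rwa [show r ≫ terminal.from X = terminal.from Z from terminal.hom_ext _ _] at this⟩
    haveI : HasInjectiveResolutions Y.Modules := inferInstance
    have hR : ∀ q : ℕ, IsZero ((Coh.Rpush b (q + 1)).obj (Coh.structureModule Y)) := fun q =>
      (isZero_Rpush_pullback hbl hc.locallyPair (Groth.L16.HomSh.isFinLocFree_unit Z) (q + 1)
        (Nat.succ_pos q)).of_iso ((Coh.Rpush b (q + 1)).mapIso (Groth.L29.LocFree.pullbackUnitIso b)).symm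
    haveI : Coh.IsQCoh (Coh.structureModule Y) :=
      Groth.L29.DC.PCQCoh.isQCoh_of_isFinLocFree (Groth.L16.HomSh.isFinLocFree_unit _)
    haveI : Coh.IsQCoh ((Coh.push b).obj (Coh.structureModule Y)) := Groth.L16.QcqsPush.isQCoh_push _ b
    let V : Z.affineOpens → Z.Opens := fun U => U.1
    have hV : ∀ (n : ℕ) (a : Fin (n + 1) → Z.affineOpens), IsAffineOpen (⨅ j, V (a j)) :=
      fun n a => IsAffineOpen.iInf fun j => (a j).2
    obtain ⟨e, -⟩ := Groth.L16.PushCompare.exists_HH_push b (Coh.structureModule Y) V (iSup_affineOpens_eq_top Z)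
      (fun n a q => Groth.L22.Inter.subsingleton_HU_preimage b _ (hV n a) q (hR q))
      (fun n a q => subsingleton_of_forall_eq 0 (Groth.L17.hu_affine_eq_zero _ (hV n a) q)) 1
    exact @Equiv.subsingleton _ _ e.toEquiv (Groth.L14.LocHilbLift.subsingleton_HH_of_iso p.symm 1 (ih hX))

end Groth.L13.RatSing
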